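import Mathlib.CategoryTheory.Sites.Over
import Mathlib.CategoryTheory.Sites.Pullback
import Mathlib.CategoryTheory.Sites.CoverLifting
import Mathlib.CategoryTheory.Adjunction.Triple
import Mathlib.CategoryTheory.Functor.KanExtension.Adjunction


/-!
Extension along an open subobject of the terminal object: the unit is invertible.
-/

set_option autoImplicit false
set_option linter.style.haveILetI false
universe w v u v' u'

open CategoryTheory CategoryTheory.Limits Opposite

namespace Groth.L28.SiteOpen

theorem isIso_unit {C : Type u} [Category.{v} C] (J : GrothendieckTopology C) (U : C)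
    (hU : ∀ V : C, Subsingleton (V ⟶ U)) {A : Type u'} [Category.{v'} A]
    [((Over.forget U).sheafPushforwardContinuous A (J.over U) J).IsRightAdjoint]
    [∀ (F : (Over U)ᵒᵖ ⥤ A), (Over.forget U).op.HasPointwiseRightKanExtension F] :
    IsIso ((Over.forget U).sheafAdjunctionContinuous A (J.over U) J).unit := by
  haveI : (Over.forget U).Full := ⟨fun {V W} g => ⟨Over.homMk g ((hU _).elim _ _), rfl⟩⟩
  haveI : (Over.forget U).op.Full := inferInstance
  haveI : (Over.forget U).op.Faithful := inferInstance
  let adj := (Over.forget U).sheafAdjunctionCocontinuous A (J.over U) J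
  haveI : ∀ F, IsIso (adj.counit.app F) := fun F => by
    haveI : IsIso ((sheafToPresheaf (J.over U) A).map (adj.counit.app F)) := by
      show IsIso (adj.counit.app F).hom
      rw [Functor.sheafAdjunctionCocontinuous_counit_app_hom]
      exact NatIso.isIso_app_of_isIso ((Over.forget U).op.ranAdjunction A).counit F.obj
    exact isIso_of_reflects_iso _ (sheafToPresheaf (J.over U) A)
  haveI : IsIso adj.counit := NatIso.isIso_of_isIso_app _
  exact (Adjunction.Triple.isIso_unit_iff_isIso_counit
    (⟨(Over.forget U).sheafAdjunctionContinuous A (J.over U) J, adj⟩ :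
      Adjunction.Triple _ _ _)).2 inferInstance

end Groth.L28.SiteOpen
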